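import Cfsg.Agent.Lib.Crit5.Psi

/-!
# The affine group `ASL₂(4)` inside `SL₃(4)`
-/

set_option autoImplicit false

namespace Cfsg.Agent.Lib.Crit5.Iso

open Cfsg.Agent.Lib.Crit5.F4 FF Cfsg.Agent.Lib.Crit5.SL2 Cfsg.Agent.Lib.Crit5.SL2b

universe u

/-- The group of three by three matrices. -/
abbrev M3 := Matrix.SpecialLinearGroup (Fin 3) FF

/-- The matrices with last row `(0, 0, 1)`. -/
def SS : Set M3 := {M : M3 | (M : Matrix (Fin 3) (Fin 3) FF) 2 0 = 0 ∧
  (M : Matrix (Fin 3) (Fin 3) FF) 2 1 = 0 ∧ (M : Matrix (Fin 3) (Fin 3) FF) 2 2 = 1}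

theorem mul_row {M N : M3} (hM : M ∈ SS) (j : Fin 3) :
    ((M * N : M3) : Matrix (Fin 3) (Fin 3) FF) 2 j = (N : Matrix (Fin 3) (Fin 3) FF) 2 j := by
  obtain ⟨h0, h1, h2⟩ := hM
  rw [Matrix.SpecialLinearGroup.coe_mul, Matrix.mul_apply, Fin.sum_univ_three, h0, h1, h2]
  simp

/-- The subgroup of matrices with last row `(0, 0, 1)`. -/
def TT : Subgroup M3 where
  carrier := SS
  mul_mem' := by
    intro M N hM hN
    refine ⟨?_, ?_, ?_⟩
    · rw [mul_row hM]; exact hN.1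
    · rw [mul_row hM]; exact hN.2.1
    · rw [mul_row hM]; exact hN.2.2
  one_mem' := by
    refine ⟨?_, ?_, ?_⟩ <;> simp
  inv_mem' := by
    intro M hM
    have h : ∀ j, ((M⁻¹ : M3) : Matrix (Fin 3) (Fin 3) FF) 2 j
        = ((1 : M3) : Matrix (Fin 3) (Fin 3) FF) 2 j := by
      intro j
      rw [← mul_row hM j, mul_inv_cancel]
    refine ⟨?_, ?_, ?_⟩
    · rw [h]; simp
    · rw [h]; simp
    · rw [h]; simp

theorem closure_SS : Subgroup.closure SS = TT := Subgroup.closure_eq TT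

/-- The upper left block. -/
def block (M : M3) (hM : M ∈ SS) : SL2 :=
  ⟨!![(M : Matrix (Fin 3) (Fin 3) FF) 0 0, (M : Matrix (Fin 3) (Fin 3) FF) 0 1;
      (M : Matrix (Fin 3) (Fin 3) FF) 1 0, (M : Matrix (Fin 3) (Fin 3) FF) 1 1], by
    obtain ⟨h0, h1, h2⟩ := hM
    have hd := M.2
    rw [Matrix.det_fin_three, h0, h1, h2] at hd
    rw [Matrix.det_fin_two_of]
    simpa using hd⟩

/-- The last column. -/
def vec (M : M3) : Vec :=
  ![(M : Matrix (Fin 3) (Fin 3) FF) 0 2, (M : Matrix (Fin 3) (Fin 3) FF) 1 2]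

theorem block_mul {M N : M3} (hM : M ∈ SS) (hN : N ∈ SS) (hMN : M * N ∈ SS) :
    block (M * N) hMN = block M hM * block N hN := by
  obtain ⟨h0, h1, h2⟩ := hN
  apply Subtype.ext
  have hval : ((block M hM * block N ⟨h0, h1, h2⟩ : SL2) : Matrix (Fin 2) (Fin 2) FF)
      = (block M hM).1 * (block N ⟨h0, h1, h2⟩).1 := rfl
  rw [hval]
  ext i j
  simp only [block, Matrix.SpecialLinearGroup.coe_mul]
  fin_cases i <;> fin_cases j <;>
    simp [Matrix.mul_apply, Fin.sum_univ_three, Fin.sum_univ_two, h0, h1, h2]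

theorem vec_mul {M N : M3} (hM : M ∈ SS) (hN : N ∈ SS) :
    vec (M * N) = vec M + act (block M hM) (vec N) := by
  obtain ⟨h0, h1, h2⟩ := hN
  ext i
  simp only [vec, block, act, Matrix.SpecialLinearGroup.coe_mul]
  fin_cases i <;>
    simp [Matrix.mul_apply, Matrix.mulVec, dotProduct, Fin.sum_univ_three, Fin.sum_univ_two,
      h0, h1, h2] <;> ring

variable {G : Type u} [Group G]

theorem exists_iso (π : G →* SL2) (σ : SL2 →* G) (hσ : ∀ g, π (σ g) = g) (Ψ : Vec → G)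
    (hadd : ∀ u v, Ψ (u + v) = Ψ u * Ψ v)
    (hequi : ∀ k u, Ψ (act k u) = σ k * Ψ u * (σ k)⁻¹) (hker : ∀ u, π (Ψ u) = 1)
    (hinj : ∀ u, Ψ u = 1 → u = 0) (hsurj : ∀ n, π n = 1 → ∃ u, n = Ψ u) :
    Nonempty (G ≃* ↥(Subgroup.closure SS)) := by
  rw [closure_SS]
  let f : TT → G := fun M => Ψ (vec M.1) * σ (block M.1 M.2)
  have hf : ∀ M N : TT, f (M * N) = f M * f N := by
    intro M N
    have hb : σ (block (M.1 * N.1) (M * N).2) = σ (block M.1 M.2) * σ (block N.1 N.2) := by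
      rw [← map_mul]
      exact congrArg σ (block_mul M.2 N.2 (M * N).2)
    have hv : Ψ (vec (M.1 * N.1)) = Ψ (vec M.1) *
        (σ (block M.1 M.2) * Ψ (vec N.1) * (σ (block M.1 M.2))⁻¹) := by
      rw [vec_mul M.2 N.2, hadd, hequi]
    change Ψ (vec (M.1 * N.1)) * σ (block (M.1 * N.1) (M * N).2) =
      Ψ (vec M.1) * σ (block M.1 M.2) * (Ψ (vec N.1) * σ (block N.1 N.2))
    rw [hb, hv]
    group
  let Θ : TT →* G := MonoidHom.mk' f hf
  have hΘ : ∀ M : TT, Θ M = Ψ (vec M.1) * σ (block M.1 M.2) := fun M => rfl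
  have hΘinj : Function.Injective Θ := by
    rw [injective_iff_map_eq_one]
    intro M hM
    rw [hΘ] at hM
    have h1 : block M.1 M.2 = 1 := by
      have := congrArg π hM
      rwa [map_mul, hker, one_mul, hσ, map_one] at this
    rw [h1, map_one, mul_one] at hM
    have h2 := hinj _ hM
    obtain ⟨h20, h21, h22⟩ := M.2
    have h00 : (M.1 : Matrix (Fin 3) (Fin 3) FF) 0 0 = 1 := by
      simpa [block] using congrFun (congrFun (congrArg Subtype.val h1) 0) 0
    have h01 : (M.1 : Matrix (Fin 3) (Fin 3) FF) 0 1 = 0 := by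
      simpa [block] using congrFun (congrFun (congrArg Subtype.val h1) 0) 1
    have h10 : (M.1 : Matrix (Fin 3) (Fin 3) FF) 1 0 = 0 := by
      simpa [block] using congrFun (congrFun (congrArg Subtype.val h1) 1) 0
    have h11 : (M.1 : Matrix (Fin 3) (Fin 3) FF) 1 1 = 1 := by
      simpa [block] using congrFun (congrFun (congrArg Subtype.val h1) 1) 1
    have h02 : (M.1 : Matrix (Fin 3) (Fin 3) FF) 0 2 = 0 := by
      simpa [vec] using congrFun h2 0
    have h12 : (M.1 : Matrix (Fin 3) (Fin 3) FF) 1 2 = 0 := by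
      simpa [vec] using congrFun h2 1
    apply Subtype.ext
    apply Subtype.ext
    ext i j
    fin_cases i <;> fin_cases j <;> simp [h00, h01, h02, h10, h11, h12, h20, h21, h22]
  have hΘsurj : Function.Surjective Θ := by
    intro g
    set A : SL2 := π g with hA
    obtain ⟨v, hv⟩ := hsurj (g * (σ A)⁻¹) (by
      rw [map_mul, map_inv, hσ, hA]
      group)
    have hdet : (A : Matrix (Fin 2) (Fin 2) FF) 0 0 * (A : Matrix (Fin 2) (Fin 2) FF) 1 1 -
        (A : Matrix (Fin 2) (Fin 2) FF) 0 1 * (A : Matrix (Fin 2) (Fin 2) FF) 1 0 = 1 := by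
      have hd := A.2
      rwa [Matrix.det_fin_two] at hd
    let m : M3 := ⟨!![(A : Matrix (Fin 2) (Fin 2) FF) 0 0, (A : Matrix (Fin 2) (Fin 2) FF) 0 1, v 0;
        (A : Matrix (Fin 2) (Fin 2) FF) 1 0, (A : Matrix (Fin 2) (Fin 2) FF) 1 1, v 1;
        0, 0, 1], by
      rw [Matrix.det_fin_three]
      simpa using hdet⟩
    have hm : m ∈ SS := by
      refine ⟨?_, ?_, ?_⟩ <;> simp [m]
    have hb : block m hm = A := by
      apply Subtype.ext
      ext i j
      fin_cases i <;> fin_cases j <;> simp [block, m]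
    have hvec : vec m = v := by
      ext i
      fin_cases i <;> simp [vec, m]
    refine ⟨⟨m, hm⟩, ?_⟩
    rw [hΘ]
    change Ψ (vec m) * σ (block m hm) = g
    rw [hb, hvec, ← hv]
    group
  exact ⟨(MulEquiv.ofBijective Θ ⟨hΘinj, hΘsurj⟩).symm⟩

end Cfsg.Agent.Lib.Crit5.Iso
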