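import Cfsg.Agent.Lib.Crit5.Split
import Cfsg.Agent.Lib.Ord5.Two3

/-!
# A minimal normal subgroup below `SL₂(4)` is the natural module
-/

set_option autoImplicit false

namespace Cfsg.Agent.Lib.Crit5.Psi

open Cfsg.Agent.Lib.Crit5.F4 FF Cfsg.Agent.Lib.Crit5.SL2 Cfsg.Agent.Lib.Crit5.SL2b
open Cfsg.Agent.Lib.Crit5.Split
open Cfsg.Agent.Lib.Ord5.Basic Cfsg.Agent.Lib.Ord5.E1

universe u

variable {G : Type u} [Group G]

theorem exists_fixed [Finite G] (π : G →* SL2) (hN : ∀ n, π n = 1 → n * n = 1)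
    (σ : SL2 →* G) (hne : π.ker ≠ ⊥) :
    ∃ x, π x = 1 ∧ x ≠ 1 ∧ ∀ t : SL2, act t e₁ = e₁ → σ t * x = x * σ t := by
  have hpN : IsPGroup 2 π.ker := by
    intro x
    refine ⟨1, ?_⟩
    rw [pow_one, pow_two]
    exact Subtype.ext (hN x x.2)
  have hpY : IsPGroup 2 (T0.map σ) := by
    rintro ⟨y, t, ht, rfl⟩
    refine ⟨1, ?_⟩
    rw [pow_one, pow_two]
    apply Subtype.ext
    change σ t * σ t = 1
    rw [← map_mul, stab_mem t ht, map_one]
  have hpX := hpN.to_sup_of_normal_left hpY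
  obtain ⟨w, hw, hw1, hwc⟩ := Cfsg.Agent.Lib.Ord5.Two3.exists_central hpX le_sup_left (by
    have : Subgroup.normalizer (π.ker : Set G) = ⊤ :=
      Subgroup.normalizer_eq_top_iff.2 inferInstance
    rw [this]
    exact le_top) hne
  refine ⟨w, hw, hw1, fun t ht => ?_⟩
  exact hwc _ (Subgroup.mem_sup_right ⟨t, ht, rfl⟩)

theorem exists_psi [Finite G] (hS : IsO G) (π : G →* SL2) (hN : ∀ n, π n = 1 → n * n = 1)
    (σ : SL2 →* G) (hσ : ∀ g, π (σ g) = g)
    (hne : π.ker ≠ ⊥) (hmin : ∀ K : Subgroup G, K.Normal → K ≤ π.ker → K ≠ ⊥ → K = π.ker) :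
    ∃ Ψ : Vec → G, (∀ u v, Ψ (u + v) = Ψ u * Ψ v) ∧
      (∀ k u, Ψ (act k u) = σ k * Ψ u * (σ k)⁻¹) ∧ (∀ u, π (Ψ u) = 1) ∧
      (∀ u, Ψ u = 1 → u = 0) ∧ (∀ n, π n = 1 → ∃ u, n = Ψ u) := by
  obtain ⟨x, hx, hx1, hxc⟩ := exists_fixed π hN σ hne
  choose g hg using exists_g
  classical
  let Ψ : Vec → G := fun u => if h : u = 0 then 1 else σ (g u h) * x * (σ (g u h))⁻¹
  have hΨ0 : Ψ 0 = 1 := dif_pos rfl
  have hΨne : ∀ u (h : u ≠ 0), Ψ u = σ (g u h) * x * (σ (g u h))⁻¹ := fun u h => dif_neg h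
  have hkey : ∀ (u : Vec) (k : SL2), act k e₁ = u → Ψ u = σ k * x * (σ k)⁻¹ := by
    intro u k hk
    have hu : u ≠ 0 := by
      rw [← hk]
      exact act_ne_zero k _ e₁_ne
    rw [hΨne u hu]
    have h1 : act ((g u hu)⁻¹ * k) e₁ = e₁ := by
      have h0 : act (g u hu)⁻¹ (act (g u hu) e₁) = e₁ := by
        rw [← act_mul, inv_mul_cancel, act_one]
      rw [hg u hu] at h0
      rw [act_mul, hk]
      exact h0
    have h2 := hxc _ h1
    rw [map_mul, map_inv] at h2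
    have h3 : σ k * x = σ (g u hu) * x * (σ (g u hu))⁻¹ * σ k := by
      calc σ k * x = σ (g u hu) * ((σ (g u hu))⁻¹ * σ k * x) := by group
        _ = σ (g u hu) * (x * ((σ (g u hu))⁻¹ * σ k)) := by rw [h2]
        _ = _ := by group
    rw [h3]
    group
  have hequi : ∀ k u, Ψ (act k u) = σ k * Ψ u * (σ k)⁻¹ := by
    intro k u
    by_cases hu : u = 0
    · subst hu
      rw [act_zero, hΨ0]
      group
    · rw [hΨne u hu]
      rw [hkey (act k u) (k * g u hu) (by rw [act_mul, hg])]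
      rw [map_mul]
      group
  have hker : ∀ u, π (Ψ u) = 1 := by
    intro u
    by_cases hu : u = 0
    · subst hu
      rw [hΨ0, map_one]
    · rw [hΨne u hu, map_mul, map_mul, map_inv, hx, mul_one, mul_inv_cancel]
  have hinj : ∀ u, Ψ u = 1 → u = 0 := by
    intro u hu
    by_contra h
    rw [hΨne u h] at hu
    apply hx1
    have : x = (σ (g u h))⁻¹ * (σ (g u h) * x * (σ (g u h))⁻¹) * σ (g u h) := by group
    rw [this, hu]
    group
  have hexp : ∀ u, Ψ u * Ψ u = 1 := fun u => hN _ (hker u)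
  have hadd : ∀ u v, Ψ (u + v) = Ψ u * Ψ v := by
    intro u v
    by_cases hu : u = 0
    · subst hu
      rw [zero_add, hΨ0, one_mul]
    by_cases hv : v = 0
    · subst hv
      rw [add_zero, hΨ0, mul_one]
    by_cases huv : u = v
    · subst huv
      rw [vec_add_self, hΨ0, hexp]
    obtain ⟨s, hs3, hs1, hsu, hsv⟩ := triple u v hu hv huv
    have hos : orderOf s = 3 := orderOf_eq_prime hs3 hs1
    have hoσ : orderOf (σ s) = 3 := hS.orderOf_lift π (Or.inl rfl) (by rw [hσ]; exact hos)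
    have hs3' : σ s * σ s * σ s = 1 := by
      have := pow_orderOf_eq_one (σ s)
      rw [hoσ] at this
      simpa [pow_succ, mul_assoc] using this
    have hQs : ∀ y ∈ π.ker, σ s * y * (σ s)⁻¹ ∈ π.ker := by
      intro y hy
      exact (inferInstance : (π.ker).Normal).conj_mem y hy _
    have hQfix : ∀ y ∈ π.ker, σ s * y = y * σ s → y = 1 := by
      intro y hy hc
      have hco : Nat.Coprime (orderOf (σ s)) (orderOf y) := by
        rw [hoσ]
        exact orderOf_dvd_two_coprime (Or.inl rfl) (hN y hy)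
      rcases hS.eq_one_of_coprime hc hco with h | h
      · rw [h, orderOf_one] at hoσ
        omega
      · exact h
    have hn := norm3 π.ker (σ s) hs3' hQs hQfix (Ψ u) (hker u)
    rw [← hequi, hsu, ← hequi, hsv] at hn
    have h1 : Ψ u * Ψ v = (Ψ (u + v))⁻¹ := eq_inv_of_mul_eq_one_left hn
    rw [h1]
    exact (inv_eq_of_mul_eq_one_left (hexp _)).symm
  refine ⟨Ψ, hadd, hequi, hker, hinj, ?_⟩
  -- the range is normal
  have hcomm : ∀ a ∈ π.ker, ∀ b ∈ π.ker, a * b = b * a := by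
    intro a ha b hb
    have hWt : ∀ w : π.ker, w * w = 1 := fun w => Subtype.ext (hN w w.2)
    exact congrArg Subtype.val
      (Cfsg.Agent.Lib.Ord5.Module.comm_of_exp_two hWt ⟨a, ha⟩ ⟨b, hb⟩)
  let R : Subgroup G :=
    { carrier := Set.range Ψ
      mul_mem' := by
        rintro _ _ ⟨u, rfl⟩ ⟨v, rfl⟩
        exact ⟨u + v, hadd u v⟩
      one_mem' := ⟨0, hΨ0⟩
      inv_mem' := by
        rintro _ ⟨u, rfl⟩
        exact ⟨u, (inv_eq_of_mul_eq_one_left (hexp u)).symm⟩ }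
  have hRn : R.Normal := by
    refine ⟨?_⟩
    rintro _ ⟨u, rfl⟩ y
    set k : SL2 := π y with hk
    set n : G := y * (σ k)⁻¹ with hn
    have hnk : n ∈ π.ker := by
      rw [MonoidHom.mem_ker, hn, map_mul, map_inv, hσ, hk]
      group
    refine ⟨act k u, ?_⟩
    rw [hequi]
    have hy : y = n * σ k := by rw [hn]; group
    have h1 : σ k * Ψ u * (σ k)⁻¹ ∈ π.ker := by
      rw [← hequi]
      exact hker _
    have h2 := hcomm n hnk _ h1
    calc σ k * Ψ u * (σ k)⁻¹ = n⁻¹ * (n * (σ k * Ψ u * (σ k)⁻¹)) := by group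
      _ = n⁻¹ * ((σ k * Ψ u * (σ k)⁻¹) * n) := by rw [h2]
      _ = n * (σ k * Ψ u * (σ k)⁻¹) * n⁻¹ := by
        rw [inv_eq_of_mul_eq_one_left (hN n hnk)]
        group
      _ = y * Ψ u * y⁻¹ := by rw [hy]; group
  have hRle : R ≤ π.ker := by
    rintro _ ⟨u, rfl⟩
    exact hker u
  have hRne : R ≠ ⊥ := by
    intro h
    have h1 : Ψ e₁ ∈ R := ⟨e₁, rfl⟩
    rw [h, Subgroup.mem_bot] at h1
    exact e₁_ne (hinj _ h1)
  have hR := hmin R hRn hRle hRne
  intro n hn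
  have h1 : n ∈ R := by
    rw [hR]
    exact hn
  obtain ⟨u, rfl⟩ := h1
  exact ⟨u, rfl⟩

end Cfsg.Agent.Lib.Crit5.Psi
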