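import Cfsg.Agent.Lib.Crit5.Iso
import Cfsg.Agent.Lib.Ord5.Sol3
import Cfsg.Agent.Lib.PermRec.DegreeA5
import Cfsg.Agent.S0494

/-!
# Quotients by smaller normal subgroups keep the element orders
-/

set_option autoImplicit false
set_option linter.style.haveILetI false

namespace Cfsg.Agent.Lib.Crit5.Reduce

open Cfsg.Agent.Lib.Crit5.F4 FF Cfsg.Agent.Lib.Crit5.SL2 Cfsg.Agent.Lib.Crit5.SL2b
open Cfsg.Agent.Lib.Ord5.Basic Cfsg.Agent.Lib.Ord5.E1

universe u v

theorem card_sl2' : Nat.card SL2 = 60 := by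
  rw [Nat.card_eq_fintype_card, card_sl2]

theorem isO_sl2 : IsO SL2 := by
  refine IsO.of_finite fun g => ?_
  rcases orders g with h | h | h
  · exact (orderOf_le_of_pow_eq_one (by norm_num) h).trans (by norm_num)
  · exact (orderOf_le_of_pow_eq_one (by norm_num) h).trans (by norm_num)
  · exact orderOf_le_of_pow_eq_one (by norm_num) h

theorem not_solvable_sl2 : ¬ Group.IsSolvable SL2 := by
  intro h
  exact Cfsg.Agent.Lib.Ord5.Sol3.not_three_primes isO_sl2 (by rw [card_sl2']; norm_num)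
    (by rw [card_sl2']; norm_num) (by rw [card_sl2']; norm_num)

theorem simple_sl2 : IsSimpleGroup SL2 :=
  Cfsg.Agent.Lib.PermRec.DegreeA5.isSimple_of_not_solvable SL2 card_sl2' not_solvable_sl2

theorem sl2_iso : Nonempty (SL2 ≃* alternatingGroup (Fin 5)) :=
  haveI := simple_sl2
  Cfsg.Agent.S0494.result card_sl2'

variable {G : Type u} [Group G]

theorem range_quot [Finite G] (hS : IsO G) (π : G →* SL2) (hN : ∀ n, π n = 1 → n * n = 1)
    (σ : SL2 →* G) (hσ : ∀ g, π (σ g) = g) {Q : Type v} [Group Q] (q : G →* Q)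
    (hq : Function.Surjective q) (K : Subgroup G) (hk : ∀ g, q g = 1 ↔ g ∈ K)
    (hK : K ≤ π.ker) (hKne : K ≠ π.ker) :
    Set.range (orderOf : Q → ℕ) = {1, 2, 3, 4, 5} := by
  have hQ : IsO Q := hS.of_surjective q hq
  obtain ⟨n, hn, hnK⟩ : ∃ n, n ∈ π.ker ∧ n ∉ K := by
    by_contra hcon
    push_neg at hcon
    exact hKne (le_antisymm hK hcon)
  have hqn : q n ≠ 1 := fun h => hnK ((hk n).1 h)
  have hnn : n * n = 1 := hN n hn
  have hqn2 : q n ^ 2 = 1 := by rw [← map_pow, pow_two, hnn, map_one]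
  have ho2 : orderOf (q n) = 2 := orderOf_eq_prime hqn2 hqn
  -- lifts of elements of `SL₂`
  have hlift : ∀ g : SL2, g ≠ 1 → q (σ g) ≠ 1 := by
    intro g hg h
    have h1 : σ g ∈ π.ker := hK ((hk _).1 h)
    rw [MonoidHom.mem_ker, hσ] at h1
    exact hg h1
  have ho3 : orderOf (q (σ ss)) = 3 :=
    orderOf_eq_prime (by rw [← map_pow, ← map_pow, ss_cube, map_one, map_one]) (hlift _ ss_ne)
  have ho5 : orderOf (q (σ yy)) = 5 := by
    haveI : Fact (Nat.Prime 5) := ⟨by norm_num⟩
    exact orderOf_eq_prime (by rw [← map_pow, ← map_pow, yy_five, map_one, map_one]) (hlift _ yy_ne)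
  -- the element of order four
  have h4 : ∃ x : Q, orderOf x = 4 := by
    by_contra hcon
    have hcomm : ∀ m ∈ π.ker, q (σ aa) * q m = q m * q (σ aa) := by
      intro m hm
      by_contra hne
      apply hcon
      have hmm : m * m = 1 := hN m hm
      have ha2 : σ aa * σ aa = 1 := by rw [← map_mul, aa_sq, map_one]
      have hc : σ aa * m * (σ aa * m) ∈ π.ker := by
        rw [MonoidHom.mem_ker, map_mul, map_mul, (MonoidHom.mem_ker.1 hm : π m = 1), hσ]
        simp [aa_sq]
      have hc2 := hN _ hc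
      refine ⟨q (σ aa) * q m, ?_⟩
      have h1 : (q (σ aa) * q m) ^ 2 ^ 1 ≠ 1 := by
        intro h
        apply hne
        have h2 : q (σ aa) * q m * (q (σ aa) * q m) = 1 := by
          simpa [pow_two] using h
        have hia : (q (σ aa))⁻¹ = q (σ aa) :=
          inv_eq_of_mul_eq_one_left (by rw [← map_mul, ha2, map_one])
        have him : (q m)⁻¹ = q m := inv_eq_of_mul_eq_one_left (by rw [← map_mul, hmm, map_one])
        have h3 := eq_inv_of_mul_eq_one_left h2
        rwa [mul_inv_rev, hia, him] at h3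
      have h2 : (q (σ aa) * q m) ^ 2 ^ (1 + 1) = 1 := by
        have h3 : q (σ aa * m * (σ aa * m) * (σ aa * m * (σ aa * m))) = 1 := by
          rw [hc2, map_one]
        simpa [pow_succ, mul_assoc] using h3
      have := orderOf_eq_prime_pow h1 h2
      simpa using this
    -- the elements of `SL₂` acting trivially form a normal subgroup
    let C : Subgroup SL2 :=
      { carrier := {k | ∀ m ∈ π.ker, q (σ k) * q m = q m * q (σ k)}
        one_mem' := by
          intro m _
          simp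
        mul_mem' := by
          intro x y hx hy m hm
          change q (σ (x * y)) * q m = q m * q (σ (x * y))
          rw [map_mul, map_mul, mul_assoc, hy m hm, ← mul_assoc, hx m hm, mul_assoc]
        inv_mem' := by
          intro x hx m hm
          change q (σ x⁻¹) * q m = q m * q (σ x⁻¹)
          rw [map_inv, map_inv]
          have := hx m hm
          rw [eq_mul_inv_iff_mul_eq, mul_assoc, ← this, ← mul_assoc, inv_mul_cancel, one_mul] }
    have hCn : C.Normal := by
      refine ⟨?_⟩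
      intro x hx y m hm
      have hm' : (σ y)⁻¹ * m * σ y ∈ π.ker := by
        rw [MonoidHom.mem_ker, map_mul, map_mul, map_inv, (MonoidHom.mem_ker.1 hm : π m = 1)]
        simp
      have h1 := hx _ hm'
      rw [map_mul, map_mul, map_inv] at h1
      rw [map_mul, map_mul, map_inv, map_mul, map_mul, map_inv]
      have h2 : q (σ x) * ((q (σ y))⁻¹ * q m * q (σ y)) = (q (σ y))⁻¹ * q m * q (σ y) * q (σ x) := h1
      calc q (σ y) * q (σ x) * (q (σ y))⁻¹ * q m
          = q (σ y) * (q (σ x) * ((q (σ y))⁻¹ * q m * q (σ y))) * (q (σ y))⁻¹ := by group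
        _ = q (σ y) * ((q (σ y))⁻¹ * q m * q (σ y) * q (σ x)) * (q (σ y))⁻¹ := by rw [h2]
        _ = q m * (q (σ y) * q (σ x) * (q (σ y))⁻¹) := by group
    have hCne : C ≠ ⊥ := by
      intro h
      have h1 : aa ∈ C := hcomm
      rw [h, Subgroup.mem_bot] at h1
      exact aa_ne h1
    haveI := simple_sl2
    have hCtop : C = ⊤ := (IsSimpleGroup.eq_bot_or_eq_top_of_normal C hCn).resolve_left hCne
    have hss : ss ∈ C := by
      rw [hCtop]
      exact Subgroup.mem_top _
    have hc : Commute (q (σ ss)) (q n) := hss n hn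
    have hco : Nat.Coprime (orderOf (q (σ ss))) (orderOf (q n)) := by
      rw [ho3, ho2]
      norm_num
    rcases hQ.eq_one_of_coprime hc hco with h | h
    · exact hlift _ ss_ne h
    · exact hqn h
  obtain ⟨x4, hx4⟩ := h4
  apply Set.eq_of_subset_of_subset
  · rintro _ ⟨x, rfl⟩
    rcases hQ.cases x with h | h | h | h | h <;> rw [h] <;> simp
  · intro k hk'
    simp only [Set.mem_insert_iff, Set.mem_singleton_iff] at hk'
    rcases hk' with rfl | rfl | rfl | rfl | rfl
    · exact ⟨1, orderOf_one⟩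
    · exact ⟨_, ho2⟩
    · exact ⟨_, ho3⟩
    · exact ⟨_, hx4⟩
    · exact ⟨_, ho5⟩

/-- The main reduction. -/
theorem main_of_quot [Finite G] (hS : IsO G) (π : G →* SL2) (hπ : Function.Surjective π)
    (hN : ∀ n, π n = 1 → n * n = 1) (h4 : ∃ x : G, orderOf x = 4)
    (hcr : ∀ (K : Subgroup G) [K.Normal], K ≠ ⊥ →
      Set.range (orderOf : (↥(⊤ : Subgroup G) ⧸ K.subgroupOf ⊤) → ℕ) ≠ {1, 2, 3, 4, 5}) :
    Nonempty (G ≃* ↥(Subgroup.closure Cfsg.Agent.Lib.Crit5.Iso.SS)) := by
  obtain ⟨σ, hσ⟩ := Cfsg.Agent.Lib.Crit5.Split.exists_section hS π hπ hN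
  have hne : π.ker ≠ ⊥ := by
    intro h
    obtain ⟨x, hx⟩ := h4
    have hinj : Function.Injective π := (MonoidHom.ker_eq_bot_iff π).1 h
    have hx4 : x ^ 4 = 1 := by rw [← hx]; exact pow_orderOf_eq_one x
    have h1 : (π x) ^ 4 = 1 := by rw [← map_pow, hx4, map_one]
    have h2 := no_four _ h1
    rw [← map_pow] at h2
    have h3 : x ^ 2 = 1 := hinj (by rw [h2, map_one])
    have h5 := orderOf_le_of_pow_eq_one (by norm_num) h3
    omega
  have hmin : ∀ K : Subgroup G, K.Normal → K ≤ π.ker → K ≠ ⊥ → K = π.ker := by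
    intro K hKn hK hK1
    by_contra hKne
    haveI := hKn
    refine hcr K hK1 ?_
    refine range_quot hS π hN σ hσ
      ((QuotientGroup.mk' (K.subgroupOf ⊤)).comp Subgroup.topEquiv.symm.toMonoidHom)
      (fun x => ?_) K (fun g => ?_) hK hKne
    · obtain ⟨y, rfl⟩ := QuotientGroup.mk'_surjective (K.subgroupOf ⊤) x
      exact ⟨y.1, rfl⟩
    · change (QuotientGroup.mk' (K.subgroupOf ⊤)) (⟨g, Subgroup.mem_top g⟩ : ↥(⊤ : Subgroup G)) = 1 ↔ _
      rw [QuotientGroup.mk'_apply, QuotientGroup.eq_one_iff, Subgroup.mem_subgroupOf]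
  obtain ⟨Ψ, hadd, hequi, hker, hinj, hsurj⟩ :=
    Cfsg.Agent.Lib.Crit5.Psi.exists_psi hS π hN σ hσ hne hmin
  exact Cfsg.Agent.Lib.Crit5.Iso.exists_iso π σ hσ Ψ hadd hequi hker hinj hsurj

end Cfsg.Agent.Lib.Crit5.Reduce
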